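import Cfsg.Agent.Lib.Star.Action
import Cfsg.Agent.Lib.BrauerPairs.MajorSubsection
import Cfsg.Agent.Lib.BrauerPairs.Stable
import Cfsg.Agent.Lib.CharNormal.Gallagher
import Cfsg.Agent.Lib.CharNormal.Clifford
import Cfsg.Agent.Lib.Blocks.Covering
import Cfsg.Prelude.Def_BlockLocal

/-!
# A stable block of a normal subgroup of `p`-power index, abelian defect group above

* `res_inner_eq_sum`: the inner product of restrictions through the linear characters of the quotient;
* `exists_value_ne_zero_central`: a character does not vanish on the whole section of a central element of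
  the defect group;
* `pIndex_abelian`: the characters of the block above are the extensions of those below.
-/

set_option autoImplicit false

noncomputable section

namespace CfsgLib.PIndexBlock

open Cfsg CfsgLib.Blocks CfsgLib.BlockArith CfsgLib.Char CfsgLib.BrauerPairs CfsgLib.Star
open scoped ComplexConjugate Classical

variable {G : Type*} [Group G] [Fintype G]

theorem sum_killing_eval (N : Subgroup G) (hN : commutator G ≤ N) [Fintype (killing N)] (g : G) :
    ∑ l : killing N, ((l : G →* ℂˣ) g : ℂ) = if g ∈ N then (N.index : ℂ) else 0 := by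
  split_ifs with hg
  · rw [Finset.sum_congr rfl (g := fun _ => (1 : ℂ)) fun l _ => by rw [l.2 g hg, Units.val_one],
      Finset.sum_const, nsmul_eq_mul, mul_one, Finset.card_univ, ← Nat.card_eq_fintype_card, card_killing N hN]
  · have : N.Normal := ⟨fun x hx y => by
      rw [show y * x * y⁻¹ = (y * x * y⁻¹ * x⁻¹) * x by group]
      exact N.mul_mem (hN (Subgroup.commutator_mem_commutator (Subgroup.mem_top y) (Subgroup.mem_top x))) hx⟩
    have hcomm : ∀ a b : G ⧸ N, a * b = b * a :=
      have := (Subgroup.Normal.quotient_commutative_iff_commutator_le (N := N)).mpr hN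
      fun a b => Std.Commutative.comm a b
    let _ : CommGroup (G ⧸ N) := { (inferInstance : Group (G ⧸ N)) with mul_comm := hcomm }
    obtain ⟨φ, hφ⟩ := CommGroup.exists_apply_ne_one_of_hasEnoughRootsOfUnity (G ⧸ N) ℂ
      (a := QuotientGroup.mk g) (fun h => hg ((QuotientGroup.eq_one_iff g).mp h))
    let l₀ : killing N := ⟨φ.comp (QuotientGroup.mk' N), fun z hz => by
      rw [MonoidHom.comp_apply, QuotientGroup.mk'_apply, (QuotientGroup.eq_one_iff z).mpr hz, map_one]⟩
    have h1 : ((l₀ : G →* ℂˣ) g : ℂ) * ∑ l : killing N, ((l : G →* ℂˣ) g : ℂ) =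
        ∑ l : killing N, ((l : G →* ℂˣ) g : ℂ) := by
      rw [Finset.mul_sum]
      exact Fintype.sum_equiv (Equiv.mulLeft l₀) _ _ fun l => by simp [MonoidHom.mul_apply]
    have h2 : (((l₀ : G →* ℂˣ) g : ℂ) - 1) * ∑ l : killing N, ((l : G →* ℂˣ) g : ℂ) = 0 := by
      rw [sub_mul, one_mul, h1, sub_self]
    exact (mul_eq_zero.mp h2).resolve_left (sub_ne_zero.mpr fun h => hφ (Units.val_eq_one.mp h))

/-- Restrictions through the linear characters of the quotient. -/
theorem res_inner_eq_sum (N : Subgroup G) [Fintype N] (hN : commutator G ≤ N) [Fintype (killing N)]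
    (f f' : G → ℂ) :
    classInner (fun n : N => f n) (fun n : N => f' n) =
      ∑ l : killing N, classInner (f * linFun (l : G →* ℂˣ)) f' := by
  simp only [classInner_def, Pi.mul_apply, linFun_apply]
  rw [← Finset.mul_sum, Finset.sum_comm]
  simp only [mul_assoc]
  have h1 : ∀ g : G, ∑ l : killing N, f g * (((l : G →* ℂˣ) g : ℂ) * conj (f' g)) =
      if g ∈ N then (N.index : ℂ) * (f g * conj (f' g)) else 0 := fun g => by
    rw [← Finset.mul_sum, ← Finset.sum_mul, sum_killing_eval N hN g]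
    split_ifs <;> ring
  simp only [h1]
  rw [sum_eq_sum_subgroup (N := N) _ (fun g hg => if_neg hg)]
  rw [Finset.sum_congr rfl (g := fun n : N => (N.index : ℂ) * (f n * conj (f' n))) fun n _ => if_pos n.2,
    ← Finset.mul_sum, ← mul_assoc, ← N.card_mul_index, Nat.cast_mul, mul_inv, mul_assoc ((Nat.card N : ℂ)⁻¹),
    inv_mul_cancel₀ (Nat.cast_ne_zero.mpr (Subgroup.index_ne_zero_of_finite)), mul_one]

variable {M : Ideal AlgInt} [M.IsMaximal] {p : ℕ} [hp : Fact p.Prime]

/-- No vanishing on the section of a central element of the defect group. -/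
theorem exists_value_ne_zero_central (hM : IsPModular p M) {B : Set (IrrCharacter G)} (hB : IsPBlock M B)
    {P : Subgroup G} (hP : IsDefectGroup p M B P) {v : G} (hv : v ∈ P) (hc : ∀ y ∈ P, y * v = v * y)
    {χ : IrrCharacter G} (hχ : χ ∈ B) :
    ∃ s : G, ¬ p ∣ orderOf s ∧ (χ : G → ℂ) (v * s) ≠ 0 := by
  obtain ⟨b, hind, hd, -⟩ := exists_major_subsection hM hB hP hv hc
  obtain ⟨χ₀, h₀, hh₀⟩ := exists_height_zero hM hB
  have := Fintype.ofFinite (Subgroup.centralizer ({v} : Set G))
  by_contra! h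
  refine NilBlock.ctr_ne_zero_major rfl hM (NilBlock.exists_pow_of_mem (IsDefectGroup.isPGroup hP) hv) hind hd
    h₀ hh₀ hχ ?_
  rw [NilBlock.ctr, NilBlock.regSum_eq, Finset.sum_eq_zero fun s _ => ?_, mul_zero]
  split_ifs with hs
  · rfl
  · have h0 : NilBlock.secH v (Subgroup.centralizer ({v} : Set G)) b χ s = 0 := by
      rw [NilBlock.secH, blockPart_congr_regular hM hind.1 (f' := fun _ => 0) hs fun c hc =>
        h (c : G) (by rwa [Subgroup.orderOf_coe])]
      simp [blockPart_eq_sum]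
    rw [h0, map_zero, mul_zero]

/-- Membership in a block through the value of its idempotent. -/
theorem sum_blockCoeff_irr {B : Set (IrrCharacter G)} (hB : IsPBlock M B) {f : G → ℂ} (hf : IsClassFunction G f) :
    ∑ g : G, blockCoeff B g * f g =
      ∑ η : IrrCharacter G, if η ∈ B then classInner f (η : G → ℂ) * (η : G → ℂ) 1 else 0 := by
  rw [← blockPart_apply, ← sum_blockCoeff_mul hB hf]
  simp only [mul_one]

variable {N : Subgroup G} [hN : N.Normal] [Fintype N]

/-- **Blocks above a stable block, with abelian defect group.** -/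
theorem pIndex_abelian (hM : IsPModular p M) (hNi : ∃ k : ℕ, N.index = p ^ k) {b : Set (IrrCharacter N)}
    (hb : IsPBlock M b) (hstab : ∀ g : G, StabilizesBlock N b g) {B : Set (IrrCharacter G)}
    (hB : IsPBlock M B) (hcov : ∃ χ ∈ B, ∃ θ ∈ b, classInner (fun n : N => (χ : G → ℂ) n) (θ : N → ℂ) ≠ 0)
    {P : Subgroup G} (hPD : IsDefectGroup p M B P) (hPab : ∀ x ∈ P, ∀ y ∈ P, x * y = y * x) :
    N ⊔ P = ⊤ ∧ IsDefectGroup p M b ((P ⊓ N).subgroupOf N) ∧
      (∀ χ ∈ B, ∃ θ ∈ b, ∀ n : N, (χ : G → ℂ) n = (θ : N → ℂ) n) ∧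
      (∀ θ ∈ b, Nat.card {χ : IrrCharacter G // χ ∈ B ∧ ∀ n : N, (χ : G → ℂ) n = (θ : N → ℂ) n} = N.index) ∧
      Nat.card B = N.index * Nat.card b ∧ blockRank p B = blockRank p b := by
  have hst : ∀ x : G, cjA x (gidem M N b) = gidem M N b := fun x =>
    ((stabilizesBlock_iff hb).mp (hstab x)).2
  obtain ⟨B₀, hB₀, heq, hcoef⟩ := exists_block_of_stable hM hNi hb hst
  -- membership
  have hval : ∀ χ : IrrCharacter G, (if χ ∈ B₀ then (χ : G → ℂ) 1 else 0) =
      ∑ θ : IrrCharacter N, if θ ∈ b then classInner (fun n : N => (χ : G → ℂ) n) (θ : N → ℂ) * (θ : N → ℂ) 1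
        else 0 := by
    intro χ
    rw [← sum_blockCoeff_irr hb (isClassFunction_of_isCharacter (isCharacter_res N (isCharacter_of_isIrr χ.2)))]
    have h1 := sum_blockCoeff_irr hB₀ (isClassFunction_of_isIrr χ.2)
    rw [Finset.sum_eq_single χ (fun η _ hne => by
      rw [classInner_irr_ne χ.2 η.2 (fun h => hne (Subtype.ext h).symm), zero_mul, ite_self])
      (fun h => absurd (Finset.mem_univ _) h), classInner_irr_self χ.2, one_mul] at h1
    rw [← h1, sum_eq_sum_subgroup (N := N) _ (fun g hg => by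
      rw [hcoef, subgroupBlockCoeff, dif_neg hg, zero_mul])]
    refine Finset.sum_congr rfl fun n _ => ?_
    rw [hcoef, subgroupBlockCoeff, dif_pos n.2]
  have hnat : ∀ (χ : IrrCharacter G) (θ : IrrCharacter N), ∃ m : ℕ,
      classInner (fun n : N => (χ : G → ℂ) n) (θ : N → ℂ) = m := fun χ θ =>
    classInner_char_nat (isCharacter_res N (isCharacter_of_isIrr χ.2)) (isCharacter_of_isIrr θ.2)
  choose m hm using hnat
  have hvalN : ∀ χ : IrrCharacter G, (if χ ∈ B₀ then charDegree (χ : G → ℂ) else 0) =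
      ∑ θ : IrrCharacter N, if θ ∈ b then m χ θ * charDegree (θ : N → ℂ) else 0 := by
    intro χ
    have h := hval χ
    simp only [hm, ← CfsgLib.CharBlocks.coe_charDegree_irr] at h
    exact_mod_cast h
  have hmem : ∀ χ : IrrCharacter G, χ ∈ B₀ ↔
      ∃ θ ∈ b, classInner (fun n : N => (χ : G → ℂ) n) (θ : N → ℂ) ≠ 0 := by
    intro χ
    constructor
    · intro hχ
      by_contra! h
      have h1 := hvalN χ
      rw [if_pos hχ, Finset.sum_eq_zero fun θ _ => ?_] at h1
      · exact (CfsgLib.CharBlocks.charDegree_pos χ.2).ne' h1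
      · split_ifs with hθ
        · have h2 := h θ hθ
          rw [hm, Nat.cast_eq_zero] at h2
          rw [h2, zero_mul]
        · rfl
    · rintro ⟨θ, hθ, hne⟩
      by_contra hχ
      have h1 := hvalN χ
      rw [if_neg hχ, eq_comm, Finset.sum_eq_zero_iff] at h1
      have h2 := h1 θ (Finset.mem_univ _)
      rw [if_pos hθ] at h2
      rw [hm, Nat.cast_ne_zero] at hne
      exact absurd ((Nat.mul_eq_zero.mp h2).resolve_right (CfsgLib.CharBlocks.charDegree_pos θ.2).ne') hne
  obtain ⟨χ₁, hχ₁, hθ₁⟩ := hcov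
  obtain rfl : B = B₀ := isPBlock_eq_of_mem hB hB₀ hχ₁ ((hmem χ₁).mpr hθ₁)
  -- the index
  have hsup : N ⊔ P = ⊤ := by
    have h1 := not_dvd_index_sup hM hb hst hB heq hPD
    obtain ⟨k, hk⟩ := hNi
    obtain ⟨j, -, hj⟩ := (Nat.dvd_prime_pow hp.out).mp (hk ▸ Subgroup.index_dvd_of_le (le_sup_left : N ≤ N ⊔ P))
    rcases Nat.eq_zero_or_pos j with rfl | hj0
    · rwa [pow_zero, Subgroup.index_eq_one] at hj
    · exact absurd (hj ▸ dvd_pow_self p hj0.ne') h1
  have hcommN : commutator G ≤ N := by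
    rw [commutator_def, Subgroup.commutator_le]
    intro x _ y _
    have hdec : ∀ g : G, ∃ n ∈ N, ∃ a ∈ P, n * a = g := fun g => by
      have hg : g ∈ ((N ⊔ P : Subgroup G) : Set G) := by rw [hsup]; exact Subgroup.mem_top g
      rw [Subgroup.normal_mul] at hg
      obtain ⟨n, hn, a, ha, h⟩ := hg
      exact ⟨n, hn, a, ha, h⟩
    obtain ⟨n₁, hn₁, a₁, ha₁, rfl⟩ := hdec x
    obtain ⟨n₂, hn₂, a₂, ha₂, rfl⟩ := hdec y
    rw [← QuotientGroup.eq_one_iff, ← QuotientGroup.mk'_apply, map_commutatorElement,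
      commutatorElement_eq_one_iff_mul_comm, map_mul, map_mul]
    simp only [QuotientGroup.mk'_apply, (QuotientGroup.eq_one_iff _).mpr hn₁,
      (QuotientGroup.eq_one_iff _).mpr hn₂, one_mul, ← QuotientGroup.mk_mul, hPab a₁ ha₁ a₂ ha₂]
  have := Fintype.ofFinite (killing N)
  have hL : Nat.card (killing N) = N.index := card_killing N hcommN
  -- regular elements
  have hregN : ∀ g : G, ¬ p ∣ orderOf g → g ∈ N := fun g hg => mem_of_index_pow hp.out hNi hg
  -- products with the linear characters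
  let tw : killing N → IrrCharacter G → IrrCharacter G := fun l χ =>
    ⟨(χ : G → ℂ) * linFun (l : G →* ℂˣ), CharNormal.isIrr_mul_linear χ.2
      (isCharacter_linFun (l : G →* ℂˣ)).1 (isCharacter_linFun (l : G →* ℂˣ)).2⟩
  have htwN : ∀ (l : killing N) (χ : IrrCharacter G) (n : N), (tw l χ : G → ℂ) n = (χ : G → ℂ) n := by
    intro l χ n
    show (χ : G → ℂ) n * linFun (l : G →* ℂˣ) n = _
    rw [linFun_apply, l.2 _ n.2, Units.val_one, mul_one]
  have hfree : ∀ χ ∈ B, ∀ l : killing N, tw l χ = χ → l = 1 := by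
    intro χ hχ l hl
    refine Subtype.ext (MonoidHom.ext fun g => ?_)
    have hle : N ⊔ P ≤ (l : G →* ℂˣ).ker := by
      refine sup_le (fun n hn => l.2 n hn) fun v hv => ?_
      obtain ⟨s, hs, hne⟩ := exists_value_ne_zero_central hM hB hPD hv (fun y hy => hPab y hy v hv) hχ
      have h1 := congrFun (congrArg (fun η : IrrCharacter G => (η : G → ℂ)) hl) (v * s)
      simp only [tw, Pi.mul_apply, linFun_apply, map_mul, Units.val_mul, l.2 s (hregN s hs), Units.val_one,
        mul_one] at h1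
      rw [mul_eq_left₀ hne] at h1
      exact Units.val_eq_one.mp h1
    exact hle (hsup ▸ Subgroup.mem_top g)
  have hinner : ∀ χ ψ : IrrCharacter G, classInner (fun n : N => (χ : G → ℂ) n) (fun n : N => (ψ : G → ℂ) n) =
      ∑ l : killing N, if tw l χ = ψ then 1 else 0 := by
    intro χ ψ
    rw [res_inner_eq_sum N hcommN]
    exact Finset.sum_congr rfl fun l _ => classInner_irrCharacter (tw l χ) ψ
  have hirr : ∀ χ ∈ B, IsIrrCharacter N (fun n : N => (χ : G → ℂ) n) := by
    intro χ hχ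
    refine irr_of_norm_one (isCharacter_res N (isCharacter_of_isIrr χ.2)) ?_
    rw [hinner, Finset.sum_eq_single (1 : killing N) (fun l _ hne => if_neg fun h => hne (hfree χ hχ l h))
      (fun h => absurd (Finset.mem_univ _) h)]
    exact if_pos (Subtype.ext (funext fun g => by simp [tw]))
  have hres : ∀ χ ∈ B, ∃ θ ∈ b, ∀ n : N, (χ : G → ℂ) n = (θ : N → ℂ) n := by
    intro χ hχ
    obtain ⟨θ, hθ, hne⟩ := (hmem χ).mp hχ
    refine ⟨θ, hθ, fun n => ?_⟩
    by_contra h
    exact hne (classInner_irr_ne (hirr χ hχ) θ.2 fun h1 => h (congrFun h1 n))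
  have hext : ∀ θ ∈ b, ∃ χ ∈ B, ∀ n : N, (χ : G → ℂ) n = (θ : N → ℂ) n := by
    intro θ hθ
    obtain ⟨χ, hne⟩ := CharNormal.exists_irr_over N θ.2
    have hχ : χ ∈ B := (hmem χ).mpr ⟨θ, hθ, hne⟩
    refine ⟨χ, hχ, fun n => ?_⟩
    by_contra h
    exact hne (classInner_irr_ne (hirr χ hχ) θ.2 fun h1 => h (congrFun h1 n))
  have hfib : ∀ θ ∈ b, Nat.card {χ : IrrCharacter G // χ ∈ B ∧ ∀ n : N, (χ : G → ℂ) n = (θ : N → ℂ) n} =
      N.index := by
    intro θ hθ
    obtain ⟨χ, hχ, hχθ⟩ := hext θ hθ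
    have hin : ∀ l : killing N, tw l χ ∈ B ∧ ∀ n : N, (tw l χ : G → ℂ) n = (θ : N → ℂ) n := fun l => by
      refine ⟨(hmem _).mpr ⟨θ, hθ, ?_⟩, fun n => (htwN l χ n).trans (hχθ n)⟩
      rw [show (fun n : N => (tw l χ : G → ℂ) n) = (θ : N → ℂ) from funext fun n => (htwN l χ n).trans (hχθ n),
        classInner_irr_self θ.2]
      exact one_ne_zero
    rw [← hL]
    refine (Nat.card_congr (Equiv.ofBijective (fun l => (⟨tw l χ, hin l⟩ : {χ : IrrCharacter G //
      χ ∈ B ∧ ∀ n : N, (χ : G → ℂ) n = (θ : N → ℂ) n})) ⟨fun l l' h => ?_, fun ψ => ?_⟩)).symm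
    · have h1 : tw l χ = tw l' χ := congrArg Subtype.val h
      refine inv_mul_eq_one.mp (hfree χ hχ (l⁻¹ * l') (Subtype.ext (funext fun g => ?_)))
      have h2 := congrFun (congrArg (fun η : IrrCharacter G => (η : G → ℂ)) h1) g
      simp only [tw, Pi.mul_apply, linFun_apply] at h2
      show (χ : G → ℂ) g * linFun (((l⁻¹ * l' : killing N)) : G →* ℂˣ) g = (χ : G → ℂ) g
      rw [linFun_apply, Subgroup.coe_mul, MonoidHom.mul_apply, Subgroup.coe_inv, MonoidHom.inv_apply,
        Units.val_mul, Units.val_inv_eq_inv_val, mul_left_comm, ← h2, mul_left_comm,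
        inv_mul_cancel₀ (Units.ne_zero _), mul_one]
    · obtain ⟨ψ, hψ, hψθ⟩ := ψ
      have h1 := hinner χ ψ
      rw [show (fun n : N => (χ : G → ℂ) n) = (θ : N → ℂ) from funext hχθ,
        show (fun n : N => (ψ : G → ℂ) n) = (θ : N → ℂ) from funext hψθ, classInner_irr_self θ.2] at h1
      by_contra h
      push Not at h
      rw [Finset.sum_eq_zero fun l _ => if_neg fun h2 => h l (Subtype.ext h2)] at h1
      exact one_ne_zero h1
  refine ⟨hsup, isDefectGroup_inf hM hb hB heq hPD, hres, hfib, ?_, ?_⟩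
  · choose r hrb hr using fun χ : B => hres χ χ.2
    let F : B → b := fun χ => ⟨r χ, hrb χ⟩
    rw [← Nat.card_congr (Equiv.sigmaFiberEquiv F), Nat.card_sigma,
      Finset.sum_congr rfl (g := fun _ => N.index) fun θ _ => ?_, Finset.sum_const, smul_eq_mul,
      Finset.card_univ, Nat.card_eq_fintype_card, mul_comm]
    rw [← hfib θ θ.2]
    exact Nat.card_congr
      { toFun := fun χ => ⟨χ.1.1, χ.1.2, fun n => (hr χ.1 n).trans
          (congrArg (fun η : IrrCharacter N => (η : N → ℂ) n) (congrArg Subtype.val χ.2))⟩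
        invFun := fun χ => ⟨⟨χ.1, χ.2.1⟩, Subtype.ext (Subtype.ext (funext fun n =>
          (hr ⟨χ.1, χ.2.1⟩ n).symm.trans (χ.2.2 n)))⟩
        left_inv := fun χ => rfl
        right_inv := fun χ => rfl }
  · let E : (N → ℂ) →ₗ[ℂ] (G → ℂ) :=
      { toFun := fun f g => if h : g ∈ N then f ⟨g, h⟩ else 0
        map_add' := fun f f' => funext fun g => by
          simp only [Pi.add_apply]; split_ifs <;> simp
        map_smul' := fun c f => funext fun g => by
          simp only [Pi.smul_apply, RingHom.id_apply]; split_ifs <;> simp }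
    have hE : Function.Injective E := fun f f' h => funext fun n => by
      have h1 := congrFun h (n : G)
      simpa [E] using h1
    have hpr : ∀ (χ : IrrCharacter G) (θ : IrrCharacter N), (∀ n : N, (χ : G → ℂ) n = (θ : N → ℂ) n) →
        pRegularPart p (χ : G → ℂ) = E (pRegularPart p (θ : N → ℂ)) := fun χ θ h => funext fun g => by
      show _ = dite (g ∈ N) _ _
      by_cases hg : g ∈ N
      · rw [dif_pos hg, pRegularPart_apply, pRegularPart_apply, Subgroup.orderOf_mk]
        split_ifs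
        · rfl
        · exact h ⟨g, hg⟩
      · rw [dif_neg hg, pRegularPart_apply, if_pos]
        by_contra h1; exact hg (hregN g h1)
    rw [blockRank, blockRank, show (fun χ : IrrCharacter G => pRegularPart p (χ : G → ℂ)) '' B =
        E '' ((fun θ : IrrCharacter N => pRegularPart p (θ : N → ℂ)) '' b) from ?_, ← Submodule.map_span]
    · exact (Submodule.equivMapOfInjective E hE _).finrank_eq.symm
    · ext φ
      constructor
      · rintro ⟨χ, hχ, rfl⟩
        obtain ⟨θ, hθ, h⟩ := hres χ hχ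
        exact ⟨_, ⟨θ, hθ, rfl⟩, (hpr χ θ h).symm⟩
      · rintro ⟨_, ⟨θ, hθ, rfl⟩, rfl⟩
        obtain ⟨χ, hχ, h⟩ := hext θ hθ
        exact ⟨χ, hχ, hpr χ θ h⟩

end CfsgLib.PIndexBlock
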